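import Mathlib.RingTheory.Ideal.AssociatedPrime.Finiteness
import Mathlib.RingTheory.Ideal.Operations
import Mathlib.RingTheory.Support
import Mathlib.RingTheory.Regular.IsSMulRegular
import Mathlib.Algebra.Module.Torsion.Basic
import Mathlib.RingTheory.Noetherian.Basic
import Mathlib.RingTheory.Finiteness.Basic

/-!
# An element of a prime acting injectively on a Noetherian module
-/

set_option linter.style.haveILetI false

namespace Groth.Agent.CohDer1.FinPush

open Pointwise

variable {B M : Type*} [CommRing B] [AddCommGroup M] [Module B M] [IsNoetherian B M]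

theorem isNoetherianRing_quotient_annihilator : IsNoetherianRing (B ⧸ Module.annihilator B M) := by
  classical
  obtain ⟨s, hs⟩ := (IsNoetherian.noetherian (⊤ : Submodule B M))
  let φ : B →ₗ[B] (s → M) := LinearMap.pi fun i => LinearMap.toSpanSingleton B M (i : M)
  have hker : LinearMap.ker φ = Module.annihilator B M := by
    ext b
    rw [LinearMap.mem_ker, Module.mem_annihilator]
    constructor
    · intro h m
      have hm : m ∈ Submodule.span B (s : Set M) := hs ▸ Submodule.mem_top
      induction hm using Submodule.span_induction with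
      | mem x hx => exact congrFun h ⟨x, hx⟩
      | zero => exact smul_zero b
      | add x y _ _ hx hy => rw [smul_add, hx, hy, add_zero]
      | smul c x _ hx => rw [smul_comm, hx, smul_zero]
    · intro h
      funext i
      exact h _
  haveI : IsNoetherian B (B ⧸ Module.annihilator B M) :=
    isNoetherian_of_linearEquiv
      (((LinearMap.ker φ).quotEquivOfEq _ hker).symm.trans φ.quotKerEquivRange).symm
  exact isNoetherianRing_iff.mpr (isNoetherian_of_tower B inferInstance)

/-- If every element of a prime containing the annihilator is a zero divisor, one element is killed by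
the whole prime. -/
theorem exists_regular_or_killed (p : Ideal B) :
    (∃ a ∈ p, IsSMulRegular M a) ∨ ∃ m : M, m ≠ 0 ∧ ∀ b ∈ p, b • m = 0 := by
  classical
  let I := Module.annihilator B M
  haveI := isNoetherianRing_quotient_annihilator (B := B) (M := M)
  letI : Module (B ⧸ I) M := Module.IsTorsionBySet.module (fun m a => Module.mem_annihilator.mp a.2 m)
  haveI : IsScalarTower B (B ⧸ I) M := Module.IsTorsionBySet.isScalarTower _
  haveI : Module.Finite B M := ⟨IsNoetherian.noetherian _⟩
  haveI : Module.Finite (B ⧸ I) M := Module.Finite.of_restrictScalars_finite B _ M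
  have hsm : ∀ (b : B) (m : M), (Ideal.Quotient.mk I b) • m = b • m := fun b m => rfl
  by_contra hne
  rw [not_or] at hne
  push Not at hne
  obtain ⟨h1, h2⟩ := hne
  have hsub : ((p.map (Ideal.Quotient.mk I) : Ideal (B ⧸ I)) : Set (B ⧸ I)) ⊆
      ⋃ q ∈ associatedPrimes (B ⧸ I) M, (q : Set (B ⧸ I)) := by
    rintro x hx
    obtain ⟨b, hb, rfl⟩ := (Ideal.mem_map_iff_of_surjective _ Ideal.Quotient.mk_surjective).mp hx
    rw [biUnion_associatedPrimes_eq_compl_regular]
    exact fun h => h1 b hb fun m n hmn => h hmn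
  have hfin := associatedPrimes.finite (B ⧸ I) M
  rw [show (⋃ q ∈ associatedPrimes (B ⧸ I) M, (q : Set (B ⧸ I))) =
    ⋃ q ∈ (hfin.toFinset : Set (Ideal (B ⧸ I))), (q : Set (B ⧸ I)) by simp] at hsub
  obtain ⟨q, hq, hle⟩ := (Ideal.subset_union_prime ⊥ ⊥ fun q hq _ _ =>
    (hfin.mem_toFinset.mp hq).isPrime).mp hsub
  obtain ⟨m, hm⟩ := (isAssociatedPrime_iff.mp (hfin.mem_toFinset.mp hq)).2
  have hq' : ∀ x : B ⧸ I, x ∈ q ↔ x • m = 0 := fun x => by
    rw [hm, Submodule.mem_colon_singleton, Submodule.mem_bot]
  obtain ⟨b, hb, hbm⟩ := h2 m (fun h0 => (hfin.mem_toFinset.mp hq).isPrime.ne_top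
    ((Ideal.eq_top_iff_one _).mpr ((hq' 1).mpr (by rw [h0, smul_zero]))))
  exact hbm ((hsm b m).symm.trans ((hq' _).mp (hle (Ideal.mem_map_of_mem _ hb))))

/-- Nakayama: multiples of a power of an element outside `p` inside `a • M` kill the support at `p`. -/
theorem not_annihilator_le_of_forall_exists (p : Ideal B) [p.IsPrime] {a g : B} (ha : a ∈ p) (hg : g ∉ p)
    (h : ∀ m : M, ∃ (n : ℕ) (m' : M), g ^ n • m = a • m') : ¬ Module.annihilator B M ≤ p := by
  intro hle
  haveI : Module.Finite B M := ⟨IsNoetherian.noetherian _⟩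
  have h1 : (⟨p, inferInstance⟩ : PrimeSpectrum B) ∈
      Module.support B (M ⧸ (Ideal.span {a} • (⊤ : Submodule B M))) := by
    rw [Module.support_quotient]
    refine ⟨?_, ?_⟩
    · rw [Module.support_eq_zeroLocus]
      exact hle
    · exact (Ideal.span_singleton_le_iff_mem _).mpr ha
  obtain ⟨x, hx⟩ := Module.mem_support_iff'.mp h1
  obtain ⟨m, rfl⟩ := Submodule.Quotient.mk_surjective _ x
  obtain ⟨n, m', hn⟩ := h m
  refine hx (g ^ n) (fun hc => hg (Ideal.IsPrime.mem_of_pow_mem inferInstance n hc)) ?_
  rw [← Submodule.Quotient.mk_smul, Submodule.Quotient.mk_eq_zero, hn]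
  exact Submodule.smul_mem_smul (Ideal.mem_span_singleton_self a) Submodule.mem_top

end Groth.Agent.CohDer1.FinPush
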