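import Groth.Agent.CohDer1.FinPush.Alg
import Groth.Agent.Clifford24.Lipman.GG
import Groth.Agent.SerreDual.ExtShRegSeq
import Groth.Agent.QCohLoc.Basic
import Groth.Agent.Coherent.QcohOps
import Groth.Agent.S4340
import Groth.Agent.S4341

/-!
# Acyclic modules with Noetherian sections on an open subscheme of an affine scheme
-/

set_option autoImplicit false
set_option backward.isDefEq.respectTransparency false
set_option linter.style.haveILetI false
set_option maxHeartbeats 1000000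

universe u

open CategoryTheory CategoryTheory.Limits AlgebraicGeometry Opposite TopologicalSpace
open Groth.Agent.Coherent Groth.Agent.PicLib Groth.Agent.AmpleLib

noncomputable section

namespace Groth.Agent.CohDer1.FinPush

variable {Z W : Scheme.{u}} [IsAffine W] (j : Z ⟶ W) [IsOpenImmersion j]

/-- Every neighbourhood contains a non-vanishing locus of a function on the ambient affine scheme. -/
theorem exists_basicOpen_mem_le {z : Z} {U : Z.Opens} (hz : z ∈ U) :
    ∃ h : Γ(W, ⊤), z ∈ Z.basicOpen (j.appTop h) ∧ Z.basicOpen (j.appTop h) ≤ U := by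
  obtain ⟨h, hle, hmem⟩ := (isAffineOpen_top W).exists_basicOpen_le (V := j ''ᵁ U)
    ⟨j z, ⟨z, hz, rfl⟩⟩ trivial
  have e : Z.basicOpen (j.appTop h) = j ⁻¹ᵁ W.basicOpen h := (Scheme.preimage_basicOpen_top j h).symm
  refine ⟨h, e.symm ▸ hmem, ?_⟩
  rw [e]
  refine le_trans (fun y hy => ?_) (j.preimage_image_eq U).le
  exact hle hy

variable [CompactSpace Z] [QuasiSeparatedSpace Z] (K : Z.Modules) [Coh.IsQCoh K]

omit [IsAffine W] [IsOpenImmersion j] [CompactSpace Z] [QuasiSeparatedSpace Z] [Coh.IsQCoh K] in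
theorem isUnit_germ {h : Γ(W, ⊤)} {z : Z} (hz : z ∈ Z.basicOpen (j.appTop h)) :
    IsUnit (Z.presheaf.germ ⊤ z trivial (j.appTop h)) :=
  (Z.mem_basicOpen _ z (Opens.mem_top z)).mp hz

include j in
/-- A stalk element is a global section up to a unit. -/
theorem exists_unit_smul_eq_germ (z : Z) (ξ : K.presheaf.stalk z) :
    ∃ (u : Z.presheaf.stalk z) (t : Γ(K, ⊤)), IsUnit u ∧ u • ξ = K.presheaf.germ ⊤ z trivial t := by
  obtain ⟨U, hz, s, rfl⟩ := K.presheaf.exists_germ_eq ξ
  obtain ⟨h, hzh, hle⟩ := exists_basicOpen_mem_le j hz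
  obtain ⟨n, -, t, ht⟩ := Groth.Agent.S4341.result Z (j.appTop h) K (resM K hle s)
  refine ⟨(Z.presheaf.germ ⊤ z trivial (j.appTop h)) ^ n, t, (isUnit_germ j hzh).pow n, ?_⟩
  let r : Γ(Z, Z.basicOpen (j.appTop h)) :=
    Z.presheaf.map (homOfLE (le_top : Z.basicOpen (j.appTop h) ≤ ⊤)).op (j.appTop h)
  have ht' : resM K (le_top : Z.basicOpen (j.appTop h) ≤ ⊤) t = r ^ n • resM K hle s := ht
  have e := congrArg (K.presheaf.germ (Z.basicOpen (j.appTop h)) z hzh) ht'
  rw [QCohLoc.germ_smul', map_pow] at e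
  simp only [r, resM, TopCat.Presheaf.germ_res_apply] at e
  exact e.symm

omit [QuasiSeparatedSpace Z] in
/-- A global section with vanishing germ is killed by a function invertible at the point. -/
theorem exists_smul_eq_zero_of_germ {z : Z} {t : Γ(K, ⊤)} (ht : K.presheaf.germ ⊤ z trivial t = 0) :
    ∃ h : Γ(W, ⊤), z ∈ Z.basicOpen (j.appTop h) ∧ ∃ n : ℕ, (j.appTop h) ^ n • t = 0 := by
  obtain ⟨U, hzU, i, i', e⟩ := K.presheaf.germ_eq z (Opens.mem_top z) (Opens.mem_top z) t 0 (by rw [ht, map_zero])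
  obtain ⟨h, hzh, hle⟩ := exists_basicOpen_mem_le j hzU
  rw [map_zero] at e
  obtain ⟨n, -, hn⟩ := Groth.Agent.S4340.result Z (j.appTop h) K t (by
    have e' := congrArg (K.presheaf.map (homOfLE hle).op) e
    rw [map_zero, ← Functor.map_comp_apply] at e'
    exact e')
  exact ⟨h, hzh, n, hn⟩

/-- Sections killed by a function invertible at a point have vanishing stalk there. -/
theorem subsingleton_stalk_of_killed {g : Γ(W, ⊤)} (hg : ∀ t : Γ(K, ⊤), j.appTop g • t = 0) {z : Z}
    (hz : j z ∈ W.basicOpen g) : Subsingleton (K.presheaf.stalk z) := by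
  refine subsingleton_of_forall_eq 0 fun ξ => ?_
  obtain ⟨u, t, hu, hξ⟩ := exists_unit_smul_eq_germ j K z ξ
  have hz' : z ∈ Z.basicOpen (j.appTop g) := (Scheme.preimage_basicOpen_top j g).le hz
  have h1 := congrArg (K.presheaf.germ ⊤ z trivial) (hg t)
  rw [QCohLoc.germ_smul', map_zero, (isUnit_germ j hz').smul_eq_zero] at h1
  rwa [h1, hu.smul_eq_zero] at hξ

variable {K} in
/-- The cokernel of multiplication by a function acting injectively on global sections. -/
def scalarSeq (a : Γ(W, ⊤)) : ShortComplex Z.Modules :=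
  ShortComplex.mk (SerreDual.smulEndo (j.appTop a) K) (cokernel.π _) (cokernel.condition _)

theorem shortExact_scalarSeq {a : Γ(W, ⊤)} (ha : ∀ t : Γ(K, ⊤), j.appTop a • t = 0 → t = 0) :
    (scalarSeq (K := K) j a).ShortExact := by
  haveI : Mono (SerreDual.smulEndo (j.appTop a) K) := by
    refine ⟨fun {P} u v huv => Scheme.Modules.hom_ext _ _ fun U => ConcreteCategory.hom_ext _ _ fun x => ?_⟩
    rw [← sub_eq_zero]
    let s : Γ(K, U) := u.app U x - v.app U x
    have hs0 : PicLib.res (le_top : U ≤ ⊤) (j.appTop a) • s = 0 := by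
      refine (smul_sub _ _ _).trans (sub_eq_zero.mpr ?_)
      exact congrArg (fun φ => Scheme.Modules.Hom.app φ U x) huv
    show s = 0
    refine TopCat.Presheaf.section_ext ⟨K.presheaf, K.isSheaf⟩ _ _ _ fun z hzU => ?_
    show K.presheaf.germ U z hzU s = K.presheaf.germ U z hzU 0
    rw [map_zero]
    obtain ⟨u, t, hu, hut⟩ := exists_unit_smul_eq_germ j K z (K.presheaf.germ U z hzU s)
    have h0 : Z.presheaf.germ ⊤ z trivial (j.appTop a) • K.presheaf.germ U z hzU s = 0 := by
      have e := congrArg (K.presheaf.germ U z hzU) hs0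
      rw [QCohLoc.germ_smul', map_zero] at e
      simp only [PicLib.res, TopCat.Presheaf.germ_res_apply] at e
      exact e
    have h1 : K.presheaf.germ ⊤ z trivial (j.appTop a • t) = 0 := by
      rw [QCohLoc.germ_smul', ← hut, smul_comm, h0, smul_zero]
    obtain ⟨h, hzh, n, hn⟩ := exists_smul_eq_zero_of_germ j K h1
    rw [smul_comm] at hn
    have h2 := congrArg (K.presheaf.germ ⊤ z trivial) (ha _ hn)
    rw [QCohLoc.germ_smul', map_zero, map_pow, ((isUnit_germ j hzh).pow n).smul_eq_zero, ← hut,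
      hu.smul_eq_zero] at h2
    exact h2
  exact { exact := ShortComplex.exact_cokernel _, mono_f := ‹_›, epi_g := inferInstanceAs (Epi (cokernel.π _)) }

section Ind

variable {M₀ : Type u} [AddCommGroup M₀] [Module Γ(W, ⊤) M₀]

/-- Data: a module on `Z` without higher cohomology whose sections are a quotient of `M₀`. -/
structure Datum where
  K : Z.Modules
  qcoh : Coh.IsQCoh K
  acyclic : ∀ q : ℕ, 0 < q → Subsingleton (Coh.HH Z K q)
  φ : M₀ →+ Γ(K, ⊤)
  φ_smul : ∀ (b : Γ(W, ⊤)) (m : M₀), φ (b • m) = j.appTop b • φ m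
  φ_surj : Function.Surjective φ

variable {j}

/-- The kernel of the presentation. -/
def Datum.ker (D : Datum j (M₀ := M₀)) : Submodule Γ(W, ⊤) M₀ where
  carrier := {m | D.φ m = 0}
  add_mem' {a b} ha hb := by
    rw [Set.mem_ofPred_eq] at *
    rw [map_add, ha, hb, add_zero]
  zero_mem' := map_zero _
  smul_mem' c m hm := by
    rw [Set.mem_ofPred_eq] at *
    rw [D.φ_smul, hm, smul_zero]

variable [IsNoetherian Γ(W, ⊤) M₀]

theorem Datum.exists_basicOpen (w : W) (hw : w ∉ Set.range j) (D : Datum j (M₀ := M₀)) :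
    ∃ g : Γ(W, ⊤), w ∈ W.basicOpen g ∧ ∀ z : Z, j z ∈ W.basicOpen g → Subsingleton (D.K.presheaf.stalk z) := by
  suffices ∀ (N : Submodule Γ(W, ⊤) M₀) (D : Datum j (M₀ := M₀)), D.ker = N →
      ∃ g : Γ(W, ⊤), w ∈ W.basicOpen g ∧ ∀ z : Z, j z ∈ W.basicOpen g → Subsingleton (D.K.presheaf.stalk z) from
    this _ D rfl
  intro N
  induction N using WellFoundedGT.induction with
  | ind N ih => ?_
  intro D hD
  subst hD
  haveI := D.qcoh
  letI : Module Γ(W, ⊤) Γ(D.K, ⊤) := Module.compHom _ j.appTop.hom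
  have hsm : ∀ (b : Γ(W, ⊤)) (t : Γ(D.K, ⊤)), b • t = j.appTop b • t := fun _ _ => rfl
  let L : M₀ →ₗ[Γ(W, ⊤)] Γ(D.K, ⊤) :=
    { toFun := D.φ, map_add' := map_add _, map_smul' := D.φ_smul }
  haveI : IsNoetherian Γ(W, ⊤) Γ(D.K, ⊤) :=
    isNoetherian_of_surjective L (LinearMap.range_eq_top.mpr D.φ_surj)
  let 𝔭 := ((isAffineOpen_top W).primeIdealOf ⟨w, trivial⟩).asIdeal
  have hmem : ∀ b : Γ(W, ⊤), w ∈ W.basicOpen b ↔ b ∉ 𝔭 := fun b => by
    rw [← PrimeSpectrum.mem_basicOpen, ← SetLike.mem_coe, ← SetLike.mem_coe]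
    have := (isAffineOpen_top W).fromSpec_preimage_basicOpen b
    constructor
    · intro h
      refine this.le ?_
      show (isAffineOpen_top W).fromSpec _ ∈ W.basicOpen b
      rw [IsAffineOpen.fromSpec_primeIdealOf]
      exact h
    · intro h
      have h' : (isAffineOpen_top W).fromSpec _ ∈ W.basicOpen b := this.ge h
      rwa [IsAffineOpen.fromSpec_primeIdealOf] at h'
  -- a function outside `𝔭` killing all sections suffices
  suffices ∃ g ∉ 𝔭, ∀ t : Γ(D.K, ⊤), j.appTop g • t = 0 by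
    obtain ⟨g, hg, hk⟩ := this
    exact ⟨g, (hmem g).mpr hg, fun z hz => subsingleton_stalk_of_killed j D.K hk hz⟩
  by_contra hne
  rw [not_exists] at hne
  have hann : Module.annihilator Γ(W, ⊤) Γ(D.K, ⊤) ≤ 𝔭 := fun b hb => by
    by_contra hb'
    exact hne b ⟨hb', fun t => Module.mem_annihilator.mp hb t⟩
  rcases exists_regular_or_killed (M := Γ(D.K, ⊤)) 𝔭 with ⟨a, ha, hreg⟩ | ⟨m, hm, hkill⟩
  · have ha0 : ∀ t : Γ(D.K, ⊤), j.appTop a • t = 0 → t = 0 := fun t ht =>
      hreg (show a • t = a • 0 by rw [hsm, ht, smul_zero])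
    have hS := shortExact_scalarSeq j D.K ha0
    let S := scalarSeq (K := D.K) j a
    haveI : Coh.IsQCoh S.X₃ := Coherent.isQCoh_cokernel _
    let π : Γ(D.K, ⊤) →+ Γ(S.X₃, ⊤) := (S.g.app ⊤).hom
    have hπ : ∀ (b : Γ(W, ⊤)) (t : Γ(D.K, ⊤)), π (j.appTop b • t) = j.appTop b • π t := fun b t =>
      Scheme.Modules.Hom.app_smul S.g _ _
    let D' : Datum j (M₀ := M₀) :=
      { K := S.X₃
        qcoh := inferInstance
        acyclic := fun q hq => Lipman24.subsingleton_HH_X₃ hS q (D.acyclic q hq) (D.acyclic (q + 1) q.succ_pos)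
        φ := π.comp D.φ
        φ_smul := fun b m => (congrArg π (D.φ_smul b m)).trans (hπ b _)
        φ_surj := (Lipman24.surjective_app_top hS (D.acyclic 1 one_pos)).comp D.φ_surj }
    have hfa : ∀ t : Γ(D.K, ⊤), S.f.app ⊤ t = j.appTop a • t := fun t => by
      refine (SerreDual.smulEndo_app _ _ _ _).trans ?_
      congr 1
      exact ConcreteCategory.congr_hom (Z.presheaf.map_id (op ⊤)) _
    have hπa : ∀ t : Γ(D.K, ⊤), π (j.appTop a • t) = 0 := fun t => by
      rw [← hfa]
      exact congrArg (fun φ => Scheme.Modules.Hom.app φ ⊤ t) S.zero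
    obtain ⟨t₀, ht₀⟩ : ∃ t : Γ(D.K, ⊤), t ≠ 0 := by
      by_contra h0
      rw [not_exists] at h0
      exact hne 1 ⟨fun h => ((isAffineOpen_top W).primeIdealOf ⟨w, trivial⟩).isPrime.ne_top
        ((Ideal.eq_top_iff_one _).mpr h), fun t => by rw [not_not.mp (h0 t), smul_zero]⟩
    obtain ⟨m₀, rfl⟩ := D.φ_surj t₀
    have hlt : D.ker < D'.ker := by
      refine lt_of_le_of_ne (fun m hm => ?_) fun he => ?_
      · show π (D.φ m) = 0
        rw [show D.φ m = 0 from hm, map_zero]
      · have : a • m₀ ∈ D'.ker := show π (D.φ (a • m₀)) = 0 by rw [D.φ_smul, hπa]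
        rw [← he] at this
        exact ht₀ (ha0 _ ((D.φ_smul a m₀).symm.trans this))
    obtain ⟨g, hgw, hg⟩ := ih _ hlt D' rfl
    refine not_annihilator_le_of_forall_exists (M := Γ(D.K, ⊤)) 𝔭 ha ((hmem g).mp hgw) (fun t => ?_) hann
    have hres : resM S.X₃ (le_top : Z.basicOpen (j.appTop g) ≤ ⊤) (π t) = 0 := by
      refine TopCat.Presheaf.section_ext ⟨S.X₃.presheaf, S.X₃.isSheaf⟩ _ _ _ fun z hz => ?_
      exact (hg z ((Scheme.preimage_basicOpen_top j g).ge hz)).elim _ _
    obtain ⟨n, -, hn⟩ := Groth.Agent.S4340.result Z (j.appTop g) S.X₃ (π t) hres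
    have hker : π (j.appTop (g ^ n) • t) = 0 := by
      rw [hπ, map_pow]
      exact hn
    obtain ⟨t', ht'⟩ := Groth.Agent.Coherent.sections_exact hS _ hker
    exact ⟨n, t', by rw [hsm, hsm, ← hfa]; exact ht'.symm⟩
  · refine hm ?_
    refine TopCat.Presheaf.section_ext ⟨D.K.presheaf, D.K.isSheaf⟩ _ _ _ fun z hz => ?_
    show D.K.presheaf.germ ⊤ z trivial m = D.K.presheaf.germ ⊤ z trivial 0
    rw [map_zero]
    by_cases hcl : ∃ b ∈ 𝔭, j z ∈ W.basicOpen b
    · obtain ⟨b, hb, hzb⟩ := hcl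
      have hz' : z ∈ Z.basicOpen (j.appTop b) := (Scheme.preimage_basicOpen_top j b).le hzb
      have h1 := congrArg (D.K.presheaf.germ ⊤ z trivial) ((hsm b m).symm.trans (hkill b hb))
      rwa [QCohLoc.germ_smul', map_zero, (isUnit_germ j hz').smul_eq_zero] at h1
    · exfalso
      push Not at hcl
      obtain ⟨h, hh, hle⟩ := (isAffineOpen_top W).exists_basicOpen_le (V := j.opensRange)
        ⟨j z, ⟨z, rfl⟩⟩ trivial
      by_cases hw' : w ∈ W.basicOpen h
      · exact hw (hh hw')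
      · exact hcl h (not_not.mp fun hc => hw' ((hmem h).mpr hc)) hle

end Ind

end Groth.Agent.CohDer1.FinPush
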