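import Groth.Agent.CohDer1.FinPush.Core
import Groth.Agent.VarietyLib.PushEuler
import Groth.Agent.Coherent.FinMor
import Groth.Agent.H8Lim.ModEq
import Mathlib.AlgebraicGeometry.ZariskisMainTheorem

/-!
# A quasi-finite morphism with an acyclic coherent module of full support and coherent image is finite
-/

set_option autoImplicit false
set_option backward.isDefEq.respectTransparency false
set_option linter.style.haveILetI false
set_option maxHeartbeats 1000000

universe u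

open CategoryTheory CategoryTheory.Limits AlgebraicGeometry Opposite TopologicalSpace
open Groth.Agent.Coherent Groth.Agent.PicLib Groth.Agent.AmpleLib

noncomputable section

namespace Groth.Agent.CohDer1.FinPush

theorem isFinite {V X : Scheme.{u}} [IsNoetherian V] [IsNoetherian X] (f : V ⟶ X)
    [LocallyQuasiFinite f] [LocallyOfFiniteType f] [QuasiCompact f] [IsSeparated f]
    [HasInjectiveResolutions V.Modules] (K : V.Modules) (hK : Coh.IsCoh K)
    (hsupp : CohB1.support K = Set.univ) (hpush : Coh.IsCoh ((Coh.push f).obj K))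
    (hvan : ∀ q : ℕ, 0 < q → IsZero ((Coh.Rpush f q).obj K)) : IsFinite f := by
  let j := f.toNormalization
  let h := f.fromNormalization
  haveI : IsOpenImmersion j := inferInstance
  haveI : IsIntegralHom h := inferInstance
  suffices Surjective j by
    haveI : IsIso j := (isIso_iff_isOpenImmersion_and_surjective j).mpr ⟨inferInstance, this⟩
    rw [IsFinite.iff_isIntegralHom_and_locallyOfFiniteType]
    refine ⟨?_, inferInstance⟩
    rw [← f.toNormalization_fromNormalization]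
    exact inferInstanceAs (IsIntegralHom (j ≫ h))
  refine ⟨fun w => ?_⟩
  by_contra hw
  obtain ⟨X₀, hX₀, hwX₀, -⟩ := Opens.isBasis_iff_nbhd.mp X.isBasis_affineOpens (Opens.mem_top (h w))
  let W₀ := h ⁻¹ᵁ X₀
  haveI : IsAffine W₀.toScheme := hX₀.preimage h
  let V₀ := f ⁻¹ᵁ X₀
  have hV₀ : V₀ = j ⁻¹ᵁ W₀ := by
    show f ⁻¹ᵁ X₀ = (f.toNormalization ≫ f.fromNormalization) ⁻¹ᵁ X₀
    rw [f.toNormalization_fromNormalization]
  let jj := j.resLE W₀ V₀ hV₀.le
  haveI : IsOpenImmersion (jj ≫ W₀.ι) := by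
    rw [show jj ≫ W₀.ι = V₀.ι ≫ j from Scheme.Hom.resLE_comp_ι j _]
    infer_instance
  haveI : IsOpenImmersion jj := IsOpenImmersion.of_comp jj W₀.ι
  haveI : Coh.IsQCoh K := hK.1
  have hc := Coherent.isCoh_restrict V₀ hK
  let K₀ : V₀.toScheme.Modules := K.restrict V₀.ι
  haveI : Coh.IsQCoh K₀ := hc.1
  haveI : CompactSpace V₀.toScheme := isCompact_iff_compactSpace.mp (TopologicalSpace.NoetherianSpace.isCompact _)
  have hac : ∀ q : ℕ, 0 < q → Subsingleton (Coh.HH V₀.toScheme K₀ q) := fun q hq => by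
    obtain ⟨ψ⟩ := exists_rpush_sections_equiv f hX₀ K q
    have hs : Subsingleton Γ((Coh.Rpush f q).obj K, X₀) := by
      refine subsingleton_of_forall_eq 0 fun z => ?_
      exact congrArg (fun φ => Scheme.Modules.Hom.app φ X₀ z)
        ((IsZero.iff_id_eq_zero _).mp (hvan q hq))
    exact ψ.toEquiv.subsingleton
  -- finiteness of the sections
  let θ : Γ(X, X₀) →+* Γ(W₀.toScheme, ⊤) := ((W₀.ι ≫ h).appLE X₀ ⊤ (fun y _ => y.2)).hom
  letI : Module Γ(W₀.toScheme, ⊤) Γ(K₀, ⊤) := Module.compHom _ jj.appTop.hom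
  letI : Algebra Γ(X, X₀) Γ(W₀.toScheme, ⊤) := θ.toAlgebra
  letI : Module Γ(X, X₀) Γ(K₀, ⊤) := Module.compHom _ θ
  haveI : IsScalarTower Γ(X, X₀) Γ(W₀.toScheme, ⊤) Γ(K₀, ⊤) :=
    IsScalarTower.of_algebraMap_smul fun r m => rfl
  haveI : Coh.IsQCoh ((Coh.push f).obj K) := hpush.1
  haveI := H8Lim.finite_sections_of_isFT (M := (Coh.push f).obj K) hpush.2 hX₀
  haveI : IsNoetherianRing Γ(X, X₀) := IsLocallyNoetherian.component_noetherian ⟨X₀, hX₀⟩
  have hθ : ∀ r : Γ(X, X₀), jj.appTop (θ r) = (V₀.ι ≫ f).appLE X₀ ⊤ (fun y _ => y.2) r := fun r => by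
    have e : V₀.ι ≫ f = jj ≫ W₀.ι ≫ h := by
      rw [← Category.assoc, Scheme.Hom.resLE_comp_ι, Category.assoc, f.toNormalization_fromNormalization]
    simp only [e, θ]
    show ((W₀.ι ≫ h).appLE X₀ ⊤ _ ≫ jj.app ⊤).hom r = _
    rw [← Scheme.Hom.appLE_eq_app]
    simp only [Scheme.Hom.appLE_comp_appLE]
    rfl
  haveI : Module.Finite Γ(X, X₀) Γ(K₀, ⊤) := by
    let ψ : Γ((Coh.push f).obj K, X₀) →ₗ[Γ(X, X₀)] Γ(K₀, ⊤) :=
      { toFun := fun x => (show Γ(K₀, ⊤) from resM K (U := V₀) (V := V₀.ι ''ᵁ ⊤) V₀.ι_image_top.le x)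
        map_add' := fun x y => map_add (K.presheaf.map _).hom x y
        map_smul' := fun r x => by
          show resM K (U := V₀) V₀.ι_image_top.le (f.app X₀ r • (show Γ(K, V₀) from x)) =
            jj.appTop (θ r) • (show Γ(K₀, ⊤) from resM K (U := V₀) V₀.ι_image_top.le x)
          rw [resM_smul, hθ]
          refine Eq.trans ?_ (ConcreteCategory.congr_hom (Scheme.Modules.smul_restrictAppIso_hom V₀.ι K ⊤ _) _).symm
          simp only [Scheme.Opens.ι_appIso, Iso.refl_inv, CommRingCat.id_apply, Scheme.Hom.appLE,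
            Scheme.Hom.comp_app, Scheme.Opens.ι_app, Category.assoc, CommRingCat.comp_apply]
          erw [← ConcreteCategory.comp_apply (V.presheaf.map _) (V.presheaf.map _), ← Functor.map_comp]
          rfl }
    refine Module.Finite.of_surjective ψ fun y => ⟨resM K (U := V₀.ι ''ᵁ ⊤) (V := V₀) V₀.ι_image_top.ge y, ?_⟩
    exact (resM_resM K _ _ _).trans (PicLib.resM_self K _ _)
  haveI : IsNoetherian Γ(X, X₀) Γ(K₀, ⊤) := isNoetherian_of_isNoetherianRing_of_finite _ _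
  haveI : IsNoetherian Γ(W₀.toScheme, ⊤) Γ(K₀, ⊤) := isNoetherian_of_tower Γ(X, X₀) inferInstance
  let D : Datum jj (M₀ := Γ(K₀, ⊤)) :=
    { K := K₀
      qcoh := inferInstance
      acyclic := hac
      φ := AddMonoidHom.id _
      φ_smul := fun _ _ => rfl
      φ_surj := fun x => ⟨x, rfl⟩ }
  have hw₀ : (⟨w, hwX₀⟩ : W₀.toScheme) ∉ Set.range jj := by
    rintro ⟨z, hz⟩
    refine hw ⟨V₀.ι z, ?_⟩
    rw [← Scheme.Hom.comp_apply, ← Scheme.Hom.resLE_comp_ι j hV₀.le, Scheme.Hom.comp_apply]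
    exact congrArg W₀.ι hz
  obtain ⟨g, hg, hzero⟩ := D.exists_basicOpen (⟨w, hwX₀⟩ : W₀.toScheme) hw₀
  have hne : ((W₀.ι ''ᵁ W₀.toScheme.basicOpen g : f.normalization.Opens) : Set f.normalization).Nonempty :=
    ⟨w, (⟨w, hwX₀⟩ : W₀.toScheme), hg, rfl⟩
  obtain ⟨v, hv⟩ := (j.denseRange).exists_mem_open (W₀.ι ''ᵁ W₀.toScheme.basicOpen g).isOpen hne
  obtain ⟨w', hw', e⟩ := hv
  have hv₀ : v ∈ V₀ := hV₀.ge (show j v ∈ W₀ from e ▸ w'.2)
  have hz : jj ⟨v, hv₀⟩ ∈ W₀.toScheme.basicOpen g := by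
    have : jj ⟨v, hv₀⟩ = w' := W₀.ι.isOpenEmbedding.injective (by
      rw [← Scheme.Hom.comp_apply, Scheme.Hom.resLE_comp_ι]
      exact e.symm)
    rw [this]
    exact hw'
  have hsub := hzero ⟨v, hv₀⟩ hz
  have hsub' : Subsingleton (K.presheaf.stalk v) :=
    @Equiv.subsingleton _ _
      (((Scheme.Modules.restrictStalkNatIso V₀.ι ⟨v, hv₀⟩).app K).addCommGroupIsoToAddEquiv.toEquiv.symm) hsub
  exact (Set.eq_univ_iff_forall.mp hsupp v) hsub'

end Groth.Agent.CohDer1.FinPush
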